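import Cfsg.Agent.Lib.CosetEnum.Pres
import Cfsg.Agent.Lib.JJ.EU0.D0
import Cfsg.Agent.Lib.JJ.EU0.D1
import Cfsg.Agent.Lib.JJ.EU0.D2
set_option autoImplicit false
set_option maxRecDepth 100000
namespace H74.JJ.EU0
open H54 (Tr force band)
open H18.TC
noncomputable def T : Tr := (.node (nat_lit 11488) (.node (nat_lit 5743) (.node (nat_lit 2871) (.node (nat_lit 1435) (.node (nat_lit 717) (.node (nat_lit 358) (.node (nat_lit 178) (.node (nat_lit 88) T_255 T_254) (.node (nat_lit 268) T_253 T_252)) (.node (nat_lit 537) (.node (nat_lit 447) T_251 T_250) (.node (nat_lit 627) T_249 T_248))) (.node (nat_lit 1076) (.node (nat_lit 896) (.node (nat_lit 806) T_247 T_246) (.node (nat_lit 986) T_245 T_244)) (.node (nat_lit 1255) (.node (nat_lit 1165) T_243 T_242) (.node (nat_lit 1345) T_241 T_240)))) (.node (nat_lit 2153) (.node (nat_lit 1794) (.node (nat_lit 1614) (.node (nat_lit 1524) T_239 T_238) (.node (nat_lit 1704) T_237 T_236)) (.node (nat_lit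 1973) (.node (nat_lit 1883) T_235 T_234) (.node (nat_lit 2063) T_233 T_232))) (.node (nat_lit 2512) (.node (nat_lit 2332) (.node (nat_lit 2242) T_231 T_230) (.node (nat_lit 2422) T_229 T_228)) (.node (nat_lit 2691) (.node (nat_lit 2601) T_227 T_226) (.node (nat_lit 2781) T_225 T_224))))) (.node (nat_lit 4307) (.node (nat_lit 3589) (.node (nat_lit 3230) (.node (nat_lit 3050) (.node (nat_lit 2960) T_223 T_222) (.node (nat_lit 3140) T_221 T_220)) (.node (nat_lit 3409) (.node (nat_lit 3319) T_219 T_218) (.node (nat_lit 3499) T_217 T_216))) (.node (nat_lit 3948) (.node (nat_lit 3768) (.node (nat_lit 3678) T_215 T_214) (.node (nat_lit 3858) T_213 T_212)) (.node (nat_lit 4127) (.node (nat_lit 4037) T_211 T_210) (.node (nat_lit 4217) T_209 T_208)))) (.node (nat_lit 5025) (.node (nat_lit 4666) (.node (nat_lit 4486) (.node (nat_lit 4396) T_207 T_206) (.node (nat_lit 4576) T_205 T_204)) (.node (nat_lit 4845) (.node (nat_lit 4755) T_203 T_202)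 (.node (nat_lit 4935) T_201 T_200))) (.node (nat_lit 5384) (.node (nat_lit 5204) (.node (nat_lit 5114) T_199 T_198) (.node (nat_lit 5294) T_197 T_196)) (.node (nat_lit 5563) (.node (nat_lit 5473) T_195 T_194) (.node (nat_lit 5653) T_193 T_192)))))) (.node (nat_lit 8615) (.node (nat_lit 7179) (.node (nat_lit 6461) (.node (nat_lit 6102) (.node (nat_lit 5922) (.node (nat_lit 5832) T_191 T_190) (.node (nat_lit 6012) T_189 T_188)) (.node (nat_lit 6281) (.node (nat_lit 6191) T_187 T_186) (.node (nat_lit 6371) T_185 T_184))) (.node (nat_lit 6820) (.node (nat_lit 6640) (.node (nat_lit 6550) T_183 T_182) (.node (nat_lit 6730) T_181 T_180)) (.node (nat_lit 6999) (.node (nat_lit 6909) T_179 T_178) (.node (nat_lit 7089) T_177 T_176)))) (.node (nat_lit 7897) (.node (nat_lit 7538) (.node (nat_lit 7358) (.node (nat_lit 7268) T_175 T_174) (.node (nat_lit 7448) T_173 T_172)) (.node (nat_lit 7717) (.node (nat_lit 7627) T_171 T_170) (.node (nat_lit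 7807) T_169 T_168))) (.node (nat_lit 8256) (.node (nat_lit 8076) (.node (nat_lit 7986) T_167 T_166) (.node (nat_lit 8166) T_165 T_164)) (.node (nat_lit 8435) (.node (nat_lit 8345) T_163 T_162) (.node (nat_lit 8525) T_161 T_160))))) (.node (nat_lit 10051) (.node (nat_lit 9333) (.node (nat_lit 8974) (.node (nat_lit 8794) (.node (nat_lit 8704) T_159 T_158) (.node (nat_lit 8884) T_157 T_156)) (.node (nat_lit 9153) (.node (nat_lit 9063) T_155 T_154) (.node (nat_lit 9243) T_153 T_152))) (.node (nat_lit 9692) (.node (nat_lit 9512) (.node (nat_lit 9422) T_151 T_150) (.node (nat_lit 9602) T_149 T_148)) (.node (nat_lit 9871) (.node (nat_lit 9781) T_147 T_146) (.node (nat_lit 9961) T_145 T_144)))) (.node (nat_lit 10769) (.node (nat_lit 10410) (.node (nat_lit 10230) (.node (nat_lit 10140) T_143 T_142) (.node (nat_lit 10320) T_141 T_140)) (.node (nat_lit 10589) (.node (nat_lit 10499) T_139 T_138) (.node (nat_lit 10679) T_137 T_136))) (.node (nat_lit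 11128) (.node (nat_lit 10948) (.node (nat_lit 10858) T_135 T_134) (.node (nat_lit 11038) T_133 T_132)) (.node (nat_lit 11308) (.node (nat_lit 11218) T_131 T_130) (.node (nat_lit 11398) T_129 T_128))))))) (.node (nat_lit 17232) (.node (nat_lit 14360) (.node (nat_lit 12924) (.node (nat_lit 12206) (.node (nat_lit 11847) (.node (nat_lit 11667) (.node (nat_lit 11577) T_127 T_126) (.node (nat_lit 11757) T_125 T_124)) (.node (nat_lit 12026) (.node (nat_lit 11936) T_123 T_122) (.node (nat_lit 12116) T_121 T_120))) (.node (nat_lit 12565) (.node (nat_lit 12385) (.node (nat_lit 12295) T_119 T_118) (.node (nat_lit 12475) T_117 T_116)) (.node (nat_lit 12744) (.node (nat_lit 12654) T_115 T_114) (.node (nat_lit 12834) T_113 T_112)))) (.node (nat_lit 13642) (.node (nat_lit 13283) (.node (nat_lit 13103) (.node (nat_lit 13013) T_111 T_110) (.node (nat_lit 13193) T_109 T_108)) (.node (nat_lit 13462) (.node (nat_lit 13372) T_107 T_106) (.node (nat_lit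 13552) T_105 T_104))) (.node (nat_lit 14001) (.node (nat_lit 13821) (.node (nat_lit 13731) T_103 T_102) (.node (nat_lit 13911) T_101 T_100)) (.node (nat_lit 14180) (.node (nat_lit 14090) T_99 T_98) (.node (nat_lit 14270) T_97 T_96))))) (.node (nat_lit 15796) (.node (nat_lit 15078) (.node (nat_lit 14719) (.node (nat_lit 14539) (.node (nat_lit 14449) T_95 T_94) (.node (nat_lit 14629) T_93 T_92)) (.node (nat_lit 14898) (.node (nat_lit 14808) T_91 T_90) (.node (nat_lit 14988) T_89 T_88))) (.node (nat_lit 15437) (.node (nat_lit 15257) (.node (nat_lit 15167) T_87 T_86) (.node (nat_lit 15347) T_85 T_84)) (.node (nat_lit 15616) (.node (nat_lit 15526) T_83 T_82) (.node (nat_lit 15706) T_81 T_80)))) (.node (nat_lit 16514) (.node (nat_lit 16155) (.node (nat_lit 15975) (.node (nat_lit 15885) T_79 T_78) (.node (nat_lit 16065) T_77 T_76)) (.node (nat_lit 16334) (.node (nat_lit 16244) T_75 T_74) (.node (nat_lit 16424) T_73 T_72))) (.node (nat_lit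 16873) (.node (nat_lit 16693) (.node (nat_lit 16603) T_71 T_70) (.node (nat_lit 16783) T_69 T_68)) (.node (nat_lit 17052) (.node (nat_lit 16962) T_67 T_66) (.node (nat_lit 17142) T_65 T_64)))))) (.node (nat_lit 20104) (.node (nat_lit 18668) (.node (nat_lit 17950) (.node (nat_lit 17591) (.node (nat_lit 17411) (.node (nat_lit 17321) T_63 T_62) (.node (nat_lit 17501) T_61 T_60)) (.node (nat_lit 17770) (.node (nat_lit 17680) T_59 T_58) (.node (nat_lit 17860) T_57 T_56))) (.node (nat_lit 18309) (.node (nat_lit 18129) (.node (nat_lit 18039) T_55 T_54) (.node (nat_lit 18219) T_53 T_52)) (.node (nat_lit 18488) (.node (nat_lit 18398) T_51 T_50) (.node (nat_lit 18578) T_49 T_48)))) (.node (nat_lit 19386) (.node (nat_lit 19027) (.node (nat_lit 18847) (.node (nat_lit 18757) T_47 T_46) (.node (nat_lit 18937) T_45 T_44)) (.node (nat_lit 19206) (.node (nat_lit 19116) T_43 T_42) (.node (nat_lit 19296) T_41 T_40))) (.node (nat_lit 19745) (.node (nat_lit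 19565) (.node (nat_lit 19475) T_39 T_38) (.node (nat_lit 19655) T_37 T_36)) (.node (nat_lit 19924) (.node (nat_lit 19834) T_35 T_34) (.node (nat_lit 20014) T_33 T_32))))) (.node (nat_lit 21540) (.node (nat_lit 20822) (.node (nat_lit 20463) (.node (nat_lit 20283) (.node (nat_lit 20193) T_31 T_30) (.node (nat_lit 20373) T_29 T_28)) (.node (nat_lit 20642) (.node (nat_lit 20552) T_27 T_26) (.node (nat_lit 20732) T_25 T_24))) (.node (nat_lit 21181) (.node (nat_lit 21001) (.node (nat_lit 20911) T_23 T_22) (.node (nat_lit 21091) T_21 T_20)) (.node (nat_lit 21360) (.node (nat_lit 21270) T_19 T_18) (.node (nat_lit 21450) T_17 T_16)))) (.node (nat_lit 22258) (.node (nat_lit 21899) (.node (nat_lit 21719) (.node (nat_lit 21629) T_15 T_14) (.node (nat_lit 21809) T_13 T_12)) (.node (nat_lit 22078) (.node (nat_lit 21988) T_11 T_10) (.node (nat_lit 22168) T_9 T_8))) (.node (nat_lit 22617) (.node (nat_lit 22437) (.node (nat_lit 22347) T_7 T_6) (.node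 (nat_lit 22527) T_5 T_4)) (.node (nat_lit 22797) (.node (nat_lit 22707) T_3 T_2) (.node (nat_lit 22887) T_1 T_0))))))))
noncomputable def J : Tr := (.node (nat_lit 11488) (.node (nat_lit 5743) (.node (nat_lit 2871) (.node (nat_lit 1435) (.node (nat_lit 717) (.node (nat_lit 358) (.node (nat_lit 178) (.node (nat_lit 88) J_255 J_254) (.node (nat_lit 268) J_253 J_252)) (.node (nat_lit 537) (.node (nat_lit 447) J_251 J_250) (.node (nat_lit 627) J_249 J_248))) (.node (nat_lit 1076) (.node (nat_lit 896) (.node (nat_lit 806) J_247 J_246) (.node (nat_lit 986) J_245 J_244)) (.node (nat_lit 1255) (.node (nat_lit 1165) J_243 J_242) (.node (nat_lit 1345) J_241 J_240)))) (.node (nat_lit 2153) (.node (nat_lit 1794) (.node (nat_lit 1614) (.node (nat_lit 1524) J_239 J_238) (.node (nat_lit 1704) J_237 J_236)) (.node (nat_lit 1973) (.node (nat_lit 1883) J_235 J_234) (.node (nat_lit 2063) J_233 J_232))) (.node (nat_lit 2512) (.node (nat_lit 2332) (.node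 (nat_lit 2242) J_231 J_230) (.node (nat_lit 2422) J_229 J_228)) (.node (nat_lit 2691) (.node (nat_lit 2601) J_227 J_226) (.node (nat_lit 2781) J_225 J_224))))) (.node (nat_lit 4307) (.node (nat_lit 3589) (.node (nat_lit 3230) (.node (nat_lit 3050) (.node (nat_lit 2960) J_223 J_222) (.node (nat_lit 3140) J_221 J_220)) (.node (nat_lit 3409) (.node (nat_lit 3319) J_219 J_218) (.node (nat_lit 3499) J_217 J_216))) (.node (nat_lit 3948) (.node (nat_lit 3768) (.node (nat_lit 3678) J_215 J_214) (.node (nat_lit 3858) J_213 J_212)) (.node (nat_lit 4127) (.node (nat_lit 4037) J_211 J_210) (.node (nat_lit 4217) J_209 J_208)))) (.node (nat_lit 5025) (.node (nat_lit 4666) (.node (nat_lit 4486) (.node (nat_lit 4396) J_207 J_206) (.node (nat_lit 4576) J_205 J_204)) (.node (nat_lit 4845) (.node (nat_lit 4755) J_203 J_202) (.node (nat_lit 4935) J_201 J_200))) (.node (nat_lit 5384) (.node (nat_lit 5204) (.node (nat_lit 5114) J_199 J_198) (.node (nat_lit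 5294) J_197 J_196)) (.node (nat_lit 5563) (.node (nat_lit 5473) J_195 J_194) (.node (nat_lit 5653) J_193 J_192)))))) (.node (nat_lit 8615) (.node (nat_lit 7179) (.node (nat_lit 6461) (.node (nat_lit 6102) (.node (nat_lit 5922) (.node (nat_lit 5832) J_191 J_190) (.node (nat_lit 6012) J_189 J_188)) (.node (nat_lit 6281) (.node (nat_lit 6191) J_187 J_186) (.node (nat_lit 6371) J_185 J_184))) (.node (nat_lit 6820) (.node (nat_lit 6640) (.node (nat_lit 6550) J_183 J_182) (.node (nat_lit 6730) J_181 J_180)) (.node (nat_lit 6999) (.node (nat_lit 6909) J_179 J_178) (.node (nat_lit 7089) J_177 J_176)))) (.node (nat_lit 7897) (.node (nat_lit 7538) (.node (nat_lit 7358) (.node (nat_lit 7268) J_175 J_174) (.node (nat_lit 7448) J_173 J_172)) (.node (nat_lit 7717) (.node (nat_lit 7627) J_171 J_170) (.node (nat_lit 7807) J_169 J_168))) (.node (nat_lit 8256) (.node (nat_lit 8076) (.node (nat_lit 7986) J_167 J_166) (.node (nat_lit 8166) J_165 J_164))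 (.node (nat_lit 8435) (.node (nat_lit 8345) J_163 J_162) (.node (nat_lit 8525) J_161 J_160))))) (.node (nat_lit 10051) (.node (nat_lit 9333) (.node (nat_lit 8974) (.node (nat_lit 8794) (.node (nat_lit 8704) J_159 J_158) (.node (nat_lit 8884) J_157 J_156)) (.node (nat_lit 9153) (.node (nat_lit 9063) J_155 J_154) (.node (nat_lit 9243) J_153 J_152))) (.node (nat_lit 9692) (.node (nat_lit 9512) (.node (nat_lit 9422) J_151 J_150) (.node (nat_lit 9602) J_149 J_148)) (.node (nat_lit 9871) (.node (nat_lit 9781) J_147 J_146) (.node (nat_lit 9961) J_145 J_144)))) (.node (nat_lit 10769) (.node (nat_lit 10410) (.node (nat_lit 10230) (.node (nat_lit 10140) J_143 J_142) (.node (nat_lit 10320) J_141 J_140)) (.node (nat_lit 10589) (.node (nat_lit 10499) J_139 J_138) (.node (nat_lit 10679) J_137 J_136))) (.node (nat_lit 11128) (.node (nat_lit 10948) (.node (nat_lit 10858) J_135 J_134) (.node (nat_lit 11038) J_133 J_132)) (.node (nat_lit 11308) (.node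 (nat_lit 11218) J_131 J_130) (.node (nat_lit 11398) J_129 J_128))))))) (.node (nat_lit 17232) (.node (nat_lit 14360) (.node (nat_lit 12924) (.node (nat_lit 12206) (.node (nat_lit 11847) (.node (nat_lit 11667) (.node (nat_lit 11577) J_127 J_126) (.node (nat_lit 11757) J_125 J_124)) (.node (nat_lit 12026) (.node (nat_lit 11936) J_123 J_122) (.node (nat_lit 12116) J_121 J_120))) (.node (nat_lit 12565) (.node (nat_lit 12385) (.node (nat_lit 12295) J_119 J_118) (.node (nat_lit 12475) J_117 J_116)) (.node (nat_lit 12744) (.node (nat_lit 12654) J_115 J_114) (.node (nat_lit 12834) J_113 J_112)))) (.node (nat_lit 13642) (.node (nat_lit 13283) (.node (nat_lit 13103) (.node (nat_lit 13013) J_111 J_110) (.node (nat_lit 13193) J_109 J_108)) (.node (nat_lit 13462) (.node (nat_lit 13372) J_107 J_106) (.node (nat_lit 13552) J_105 J_104))) (.node (nat_lit 14001) (.node (nat_lit 13821) (.node (nat_lit 13731) J_103 J_102) (.node (nat_lit 13911) J_101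 J_100)) (.node (nat_lit 14180) (.node (nat_lit 14090) J_99 J_98) (.node (nat_lit 14270) J_97 J_96))))) (.node (nat_lit 15796) (.node (nat_lit 15078) (.node (nat_lit 14719) (.node (nat_lit 14539) (.node (nat_lit 14449) J_95 J_94) (.node (nat_lit 14629) J_93 J_92)) (.node (nat_lit 14898) (.node (nat_lit 14808) J_91 J_90) (.node (nat_lit 14988) J_89 J_88))) (.node (nat_lit 15437) (.node (nat_lit 15257) (.node (nat_lit 15167) J_87 J_86) (.node (nat_lit 15347) J_85 J_84)) (.node (nat_lit 15616) (.node (nat_lit 15526) J_83 J_82) (.node (nat_lit 15706) J_81 J_80)))) (.node (nat_lit 16514) (.node (nat_lit 16155) (.node (nat_lit 15975) (.node (nat_lit 15885) J_79 J_78) (.node (nat_lit 16065) J_77 J_76)) (.node (nat_lit 16334) (.node (nat_lit 16244) J_75 J_74) (.node (nat_lit 16424) J_73 J_72))) (.node (nat_lit 16873) (.node (nat_lit 16693) (.node (nat_lit 16603) J_71 J_70) (.node (nat_lit 16783) J_69 J_68)) (.node (nat_lit 17052) (.node (nat_lit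 16962) J_67 J_66) (.node (nat_lit 17142) J_65 J_64)))))) (.node (nat_lit 20104) (.node (nat_lit 18668) (.node (nat_lit 17950) (.node (nat_lit 17591) (.node (nat_lit 17411) (.node (nat_lit 17321) J_63 J_62) (.node (nat_lit 17501) J_61 J_60)) (.node (nat_lit 17770) (.node (nat_lit 17680) J_59 J_58) (.node (nat_lit 17860) J_57 J_56))) (.node (nat_lit 18309) (.node (nat_lit 18129) (.node (nat_lit 18039) J_55 J_54) (.node (nat_lit 18219) J_53 J_52)) (.node (nat_lit 18488) (.node (nat_lit 18398) J_51 J_50) (.node (nat_lit 18578) J_49 J_48)))) (.node (nat_lit 19386) (.node (nat_lit 19027) (.node (nat_lit 18847) (.node (nat_lit 18757) J_47 J_46) (.node (nat_lit 18937) J_45 J_44)) (.node (nat_lit 19206) (.node (nat_lit 19116) J_43 J_42) (.node (nat_lit 19296) J_41 J_40))) (.node (nat_lit 19745) (.node (nat_lit 19565) (.node (nat_lit 19475) J_39 J_38) (.node (nat_lit 19655) J_37 J_36)) (.node (nat_lit 19924) (.node (nat_lit 19834) J_35 J_34)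 (.node (nat_lit 20014) J_33 J_32))))) (.node (nat_lit 21540) (.node (nat_lit 20822) (.node (nat_lit 20463) (.node (nat_lit 20283) (.node (nat_lit 20193) J_31 J_30) (.node (nat_lit 20373) J_29 J_28)) (.node (nat_lit 20642) (.node (nat_lit 20552) J_27 J_26) (.node (nat_lit 20732) J_25 J_24))) (.node (nat_lit 21181) (.node (nat_lit 21001) (.node (nat_lit 20911) J_23 J_22) (.node (nat_lit 21091) J_21 J_20)) (.node (nat_lit 21360) (.node (nat_lit 21270) J_19 J_18) (.node (nat_lit 21450) J_17 J_16)))) (.node (nat_lit 22258) (.node (nat_lit 21899) (.node (nat_lit 21719) (.node (nat_lit 21629) J_15 J_14) (.node (nat_lit 21809) J_13 J_12)) (.node (nat_lit 22078) (.node (nat_lit 21988) J_11 J_10) (.node (nat_lit 22168) J_9 J_8))) (.node (nat_lit 22617) (.node (nat_lit 22437) (.node (nat_lit 22347) J_7 J_6) (.node (nat_lit 22527) J_5 J_4)) (.node (nat_lit 22797) (.node (nat_lit 22707) J_3 J_2) (.node (nat_lit 22887) J_1 J_0))))))))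
noncomputable def F : Tr := (.node (nat_lit 4293) (.node (nat_lit 2146) (.node (nat_lit 1072) (.node (nat_lit 535) (.node (nat_lit 267) (.node (nat_lit 133) (.node (nat_lit 66) F_127 F_126) (.node (nat_lit 200) F_125 F_124)) (.node (nat_lit 401) (.node (nat_lit 334) F_123 F_122) (.node (nat_lit 468) F_121 F_120))) (.node (nat_lit 803) (.node (nat_lit 669) (.node (nat_lit 602) F_119 F_118) (.node (nat_lit 736) F_117 F_116)) (.node (nat_lit 937) (.node (nat_lit 870) F_115 F_114) (.node (nat_lit 1004) F_113 F_112)))) (.node (nat_lit 1609) (.node (nat_lit 1340) (.node (nat_lit 1206) (.node (nat_lit 1139) F_111 F_110) (.node (nat_lit 1273) F_109 F_108)) (.node (nat_lit 1474) (.node (nat_lit 1407) F_107 F_106) (.node (nat_lit 1541) F_105 F_104))) (.node (nat_lit 1877) (.node (nat_lit 1743) (.node (nat_lit 1676) F_103 F_102) (.node (nat_lit 1810) F_101 F_100)) (.node (nat_lit 2011) (.node (nat_lit 1944) F_99 F_98) (.node (nat_lit 2078) F_97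 F_96))))) (.node (nat_lit 3219) (.node (nat_lit 2682) (.node (nat_lit 2414) (.node (nat_lit 2280) (.node (nat_lit 2213) F_95 F_94) (.node (nat_lit 2347) F_93 F_92)) (.node (nat_lit 2548) (.node (nat_lit 2481) F_91 F_90) (.node (nat_lit 2615) F_89 F_88))) (.node (nat_lit 2950) (.node (nat_lit 2816) (.node (nat_lit 2749) F_87 F_86) (.node (nat_lit 2883) F_85 F_84)) (.node (nat_lit 3084) (.node (nat_lit 3017) F_83 F_82) (.node (nat_lit 3151) F_81 F_80)))) (.node (nat_lit 3756) (.node (nat_lit 3487) (.node (nat_lit 3353) (.node (nat_lit 3286) F_79 F_78) (.node (nat_lit 3420) F_77 F_76)) (.node (nat_lit 3621) (.node (nat_lit 3554) F_75 F_74) (.node (nat_lit 3688) F_73 F_72))) (.node (nat_lit 4024) (.node (nat_lit 3890) (.node (nat_lit 3823) F_71 F_70) (.node (nat_lit 3957) F_69 F_68)) (.node (nat_lit 4158) (.node (nat_lit 4091) F_67 F_66) (.node (nat_lit 4225) F_65 F_64)))))) (.node (nat_lit 6440) (.node (nat_lit 5366) (.node (nat_lit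 4829) (.node (nat_lit 4561) (.node (nat_lit 4427) (.node (nat_lit 4360) F_63 F_62) (.node (nat_lit 4494) F_61 F_60)) (.node (nat_lit 4695) (.node (nat_lit 4628) F_59 F_58) (.node (nat_lit 4762) F_57 F_56))) (.node (nat_lit 5097) (.node (nat_lit 4963) (.node (nat_lit 4896) F_55 F_54) (.node (nat_lit 5030) F_53 F_52)) (.node (nat_lit 5231) (.node (nat_lit 5164) F_51 F_50) (.node (nat_lit 5298) F_49 F_48)))) (.node (nat_lit 5903) (.node (nat_lit 5634) (.node (nat_lit 5500) (.node (nat_lit 5433) F_47 F_46) (.node (nat_lit 5567) F_45 F_44)) (.node (nat_lit 5768) (.node (nat_lit 5701) F_43 F_42) (.node (nat_lit 5835) F_41 F_40))) (.node (nat_lit 6171) (.node (nat_lit 6037) (.node (nat_lit 5970) F_39 F_38) (.node (nat_lit 6104) F_37 F_36)) (.node (nat_lit 6305) (.node (nat_lit 6238) F_35 F_34) (.node (nat_lit 6372) F_33 F_32))))) (.node (nat_lit 7514) (.node (nat_lit 6977) (.node (nat_lit 6708) (.node (nat_lit 6574) (.node (nat_lit 6507)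 F_31 F_30) (.node (nat_lit 6641) F_29 F_28)) (.node (nat_lit 6842) (.node (nat_lit 6775) F_27 F_26) (.node (nat_lit 6909) F_25 F_24))) (.node (nat_lit 7245) (.node (nat_lit 7111) (.node (nat_lit 7044) F_23 F_22) (.node (nat_lit 7178) F_21 F_20)) (.node (nat_lit 7379) (.node (nat_lit 7312) F_19 F_18) (.node (nat_lit 7446) F_17 F_16)))) (.node (nat_lit 8051) (.node (nat_lit 7782) (.node (nat_lit 7648) (.node (nat_lit 7581) F_15 F_14) (.node (nat_lit 7715) F_13 F_12)) (.node (nat_lit 7916) (.node (nat_lit 7849) F_11 F_10) (.node (nat_lit 7983) F_9 F_8))) (.node (nat_lit 8319) (.node (nat_lit 8185) (.node (nat_lit 8118) F_7 F_6) (.node (nat_lit 8252) F_5 F_4)) (.node (nat_lit 8453) (.node (nat_lit 8386) F_3 F_2) (.node (nat_lit 8520) F_1 F_0)))))))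
noncomputable def row (u : ℕ) : ℕ := Nat.land (Nat.shiftRight (force (Nat.shiftRight u (nat_lit 3)) T.get) (Nat.mul (Nat.land u (nat_lit 7)) (nat_lit 351))) (nat_lit 0x7fffffffffffffffffffffffffffffffffffffffffffffffffffffffffffffffffffffffffffffffffffffff)
noncomputable def jrow (u : ℕ) : ℕ := Nat.land (Nat.shiftRight (force (Nat.shiftRight u (nat_lit 3)) J.get) (Nat.mul (Nat.land u (nat_lit 7)) (nat_lit 264))) (nat_lit 0xffffffffffffffffffffffffffffffffffffffffffffffffffffffffffffffffff)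
noncomputable def fget (k fx : ℕ) : ℕ := F.get (Nat.add k fx)
noncomputable def wt0 : LT := (.node (nat_lit 1) (.node (nat_lit 0) (.leaf 13 1 [nat_lit 195, nat_lit 0, nat_lit 156])
(.leaf 45 0 [nat_lit 39, nat_lit 39]))
(.node (nat_lit 2) (.leaf 19 3 [nat_lit 117, nat_lit 0, nat_lit 195, nat_lit 117, nat_lit 156])
(.node (nat_lit 5) (.node (nat_lit 3) (.leaf 5 0 [nat_lit 78, nat_lit 234, nat_lit 78, nat_lit 39, nat_lit 78, nat_lit 234, nat_lit 78])
(.node (nat_lit 4) (.leaf 7 2 [nat_lit 78, nat_lit 234, nat_lit 78, nat_lit 234, nat_lit 78, nat_lit 234, nat_lit 78, nat_lit 234, nat_lit 0, nat_lit 234])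
(.leaf 11 0 [nat_lit 78, nat_lit 0, nat_lit 78, nat_lit 39, nat_lit 78, nat_lit 0, nat_lit 78, nat_lit 39, nat_lit 78, nat_lit 0, nat_lit 78, nat_lit 39, nat_lit 78, nat_lit 0, nat_lit 78])))
(.leaf 0 0 []))))
noncomputable def wt1 : LT := (.node (nat_lit 3) (.node (nat_lit 0) (.leaf 7 0 [nat_lit 234, nat_lit 39, nat_lit 78, nat_lit 234, nat_lit 78, nat_lit 234, nat_lit 78, nat_lit 234, nat_lit 78, nat_lit 234])
(.node (nat_lit 1) (.leaf 13 3 [nat_lit 156, nat_lit 39, nat_lit 195])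
(.node (nat_lit 2) (.leaf 19 5 [nat_lit 195, nat_lit 117, nat_lit 156, nat_lit 39, nat_lit 117])
(.leaf 11 14 [nat_lit 78, nat_lit 39, nat_lit 78, nat_lit 0, nat_lit 78, nat_lit 39, nat_lit 78, nat_lit 0, nat_lit 78, nat_lit 39, nat_lit 78, nat_lit 0, nat_lit 78, nat_lit 39, nat_lit 78]))))
(.leaf 0 0 []))
noncomputable def wt2 : LT := (.node (nat_lit 3) (.node (nat_lit 0) (.leaf 39 3 [nat_lit 195, nat_lit 78, nat_lit 195])
(.node (nat_lit 1) (.leaf 5 5 [nat_lit 234, nat_lit 78, nat_lit 39, nat_lit 78, nat_lit 234, nat_lit 78, nat_lit 39])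
(.node (nat_lit 2) (.leaf 27 6 [nat_lit 234, nat_lit 156, nat_lit 234, nat_lit 78, nat_lit 234, nat_lit 156, nat_lit 234])
(.leaf 1 0 [nat_lit 117, nat_lit 78, nat_lit 117, nat_lit 78, nat_lit 117]))))
(.node (nat_lit 35) (.node (nat_lit 7) (.node (nat_lit 4) (.leaf 37 10 [nat_lit 234, nat_lit 117, nat_lit 234, nat_lit 78, nat_lit 234, nat_lit 117, nat_lit 234, nat_lit 78, nat_lit 234, nat_lit 117, nat_lit 234])
(.node (nat_lit 5) (.leaf 5 7 [nat_lit 39, nat_lit 78, nat_lit 234, nat_lit 78, nat_lit 39, nat_lit 78, nat_lit 234])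
(.node (nat_lit 6) (.leaf 7 7 [nat_lit 234, nat_lit 78, nat_lit 234, nat_lit 0, nat_lit 234, nat_lit 39, nat_lit 78, nat_lit 234, nat_lit 78, nat_lit 234])
(.leaf 7 3 [nat_lit 234, nat_lit 78, nat_lit 234, nat_lit 78, nat_lit 234, nat_lit 78, nat_lit 234, nat_lit 0, nat_lit 234, nat_lit 39]))))
(.node (nat_lit 11) (.node (nat_lit 9) (.node (nat_lit 8) (.leaf 7 9 [nat_lit 234, nat_lit 0, nat_lit 234, nat_lit 39, nat_lit 78, nat_lit 234, nat_lit 78, nat_lit 234, nat_lit 78, nat_lit 234])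
(.leaf 11 15 [nat_lit 39, nat_lit 78, nat_lit 0, nat_lit 78, nat_lit 39, nat_lit 78, nat_lit 0, nat_lit 78, nat_lit 39, nat_lit 78, nat_lit 0, nat_lit 78, nat_lit 39, nat_lit 78, nat_lit 0]))
(.node (nat_lit 10) (.leaf 11 13 [nat_lit 0, nat_lit 78, nat_lit 39, nat_lit 78, nat_lit 0, nat_lit 78, nat_lit 39, nat_lit 78, nat_lit 0, nat_lit 78, nat_lit 39, nat_lit 78, nat_lit 0, nat_lit 78, nat_lit 39])
(.leaf 21 12 [nat_lit 117, nat_lit 156, nat_lit 117, nat_lit 78, nat_lit 234, nat_lit 78, nat_lit 117, nat_lit 78, nat_lit 234, nat_lit 78, nat_lit 234, nat_lit 195, nat_lit 195, nat_lit 117, nat_lit 78, nat_lit 234, nat_lit 78, nat_lit 117, nat_lit 156, nat_lit 117, nat_lit 78, nat_lit 234])))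
(.node (nat_lit 15) (.node (nat_lit 13) (.node (nat_lit 12) (.leaf 9 15 [nat_lit 234, nat_lit 78, nat_lit 234, nat_lit 78, nat_lit 234, nat_lit 78, nat_lit 234, nat_lit 78, nat_lit 234, nat_lit 78, nat_lit 234, nat_lit 78, nat_lit 234, nat_lit 78, nat_lit 234])
(.leaf 35 0 [nat_lit 195, nat_lit 78, nat_lit 234, nat_lit 78, nat_lit 234, nat_lit 78, nat_lit 234, nat_lit 78, nat_lit 234, nat_lit 156, nat_lit 234, nat_lit 78, nat_lit 234, nat_lit 78, nat_lit 234, nat_lit 78, nat_lit 234]))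
(.node (nat_lit 14) (.leaf 7 5 [nat_lit 234, nat_lit 78, nat_lit 234, nat_lit 78, nat_lit 234, nat_lit 0, nat_lit 234, nat_lit 39, nat_lit 78, nat_lit 234])
(.leaf 21 16 [nat_lit 234, nat_lit 78, nat_lit 117, nat_lit 78, nat_lit 234, nat_lit 78, nat_lit 234, nat_lit 195, nat_lit 195, nat_lit 117, nat_lit 78, nat_lit 234, nat_lit 78, nat_lit 117, nat_lit 156, nat_lit 117, nat_lit 78, nat_lit 234, nat_lit 78, nat_lit 117, nat_lit 156, nat_lit 117])))
(.node (nat_lit 19) (.node (nat_lit 17) (.node (nat_lit 16) (.leaf 35 2 [nat_lit 234, nat_lit 78, nat_lit 234, nat_lit 78, nat_lit 234, nat_lit 78, nat_lit 234, nat_lit 156, nat_lit 234, nat_lit 78, nat_lit 234, nat_lit 78, nat_lit 234, nat_lit 78, nat_lit 234, nat_lit 78, nat_lit 195])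
(.leaf 35 14 [nat_lit 234, nat_lit 78, nat_lit 234, nat_lit 78, nat_lit 195, nat_lit 78, nat_lit 234, nat_lit 78, nat_lit 234, nat_lit 78, nat_lit 234, nat_lit 78, nat_lit 234, nat_lit 156, nat_lit 234, nat_lit 78, nat_lit 234]))
(.node (nat_lit 18) (.leaf 35 6 [nat_lit 234, nat_lit 78, nat_lit 234, nat_lit 156, nat_lit 234, nat_lit 78, nat_lit 234, nat_lit 78, nat_lit 234, nat_lit 78, nat_lit 234, nat_lit 78, nat_lit 195, nat_lit 78, nat_lit 234, nat_lit 78, nat_lit 234])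
(.leaf 21 6 [nat_lit 117, nat_lit 156, nat_lit 117, nat_lit 78, nat_lit 234, nat_lit 78, nat_lit 117, nat_lit 156, nat_lit 117, nat_lit 78, nat_lit 234, nat_lit 78, nat_lit 117, nat_lit 78, nat_lit 234, nat_lit 78, nat_lit 234, nat_lit 195, nat_lit 195, nat_lit 117, nat_lit 78, nat_lit 234])))
(.node (nat_lit 23) (.node (nat_lit 21) (.node (nat_lit 20) (.leaf 21 10 [nat_lit 234, nat_lit 78, nat_lit 117, nat_lit 156, nat_lit 117, nat_lit 78, nat_lit 234, nat_lit 78, nat_lit 117, nat_lit 78, nat_lit 234, nat_lit 78, nat_lit 234, nat_lit 195, nat_lit 195, nat_lit 117, nat_lit 78, nat_lit 234, nat_lit 78, nat_lit 117, nat_lit 156, nat_lit 117])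
(.leaf 21 20 [nat_lit 234, nat_lit 78, nat_lit 234, nat_lit 195, nat_lit 195, nat_lit 117, nat_lit 78, nat_lit 234, nat_lit 78, nat_lit 117, nat_lit 156, nat_lit 117, nat_lit 78, nat_lit 234, nat_lit 78, nat_lit 117, nat_lit 156, nat_lit 117, nat_lit 78, nat_lit 234, nat_lit 78, nat_lit 117]))
(.node (nat_lit 22) (.leaf 35 12 [nat_lit 234, nat_lit 78, nat_lit 234, nat_lit 78, nat_lit 234, nat_lit 78, nat_lit 195, nat_lit 78, nat_lit 234, nat_lit 78, nat_lit 234, nat_lit 78, nat_lit 234, nat_lit 78, nat_lit 234, nat_lit 156, nat_lit 234])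
(.leaf 41 0 [nat_lit 117, nat_lit 78, nat_lit 234, nat_lit 78, nat_lit 234, nat_lit 78, nat_lit 234, nat_lit 78, nat_lit 234, nat_lit 117, nat_lit 234, nat_lit 78, nat_lit 234, nat_lit 78, nat_lit 234, nat_lit 78, nat_lit 234])))
(.node (nat_lit 26) (.node (nat_lit 24) (.leaf 21 4 [nat_lit 234, nat_lit 78, nat_lit 117, nat_lit 156, nat_lit 117, nat_lit 78, nat_lit 234, nat_lit 78, nat_lit 117, nat_lit 156, nat_lit 117, nat_lit 78, nat_lit 234, nat_lit 78, nat_lit 117, nat_lit 78, nat_lit 234, nat_lit 78, nat_lit 234, nat_lit 195, nat_lit 195, nat_lit 117])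
(.node (nat_lit 25) (.leaf 35 8 [nat_lit 234, nat_lit 156, nat_lit 234, nat_lit 78, nat_lit 234, nat_lit 78, nat_lit 234, nat_lit 78, nat_lit 234, nat_lit 78, nat_lit 195, nat_lit 78, nat_lit 234, nat_lit 78, nat_lit 234, nat_lit 78, nat_lit 234])
(.leaf 21 18 [nat_lit 117, nat_lit 78, nat_lit 234, nat_lit 78, nat_lit 234, nat_lit 195, nat_lit 195, nat_lit 117, nat_lit 78, nat_lit 234, nat_lit 78, nat_lit 117, nat_lit 156, nat_lit 117, nat_lit 78, nat_lit 234, nat_lit 78, nat_lit 117, nat_lit 156, nat_lit 117, nat_lit 78, nat_lit 234])))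
(.node (nat_lit 29) (.node (nat_lit 27) (.leaf 41 2 [nat_lit 234, nat_lit 78, nat_lit 234, nat_lit 78, nat_lit 234, nat_lit 78, nat_lit 234, nat_lit 117, nat_lit 234, nat_lit 78, nat_lit 234, nat_lit 78, nat_lit 234, nat_lit 78, nat_lit 234, nat_lit 78, nat_lit 117])
(.node (nat_lit 28) (.leaf 35 4 [nat_lit 234, nat_lit 78, nat_lit 234, nat_lit 78, nat_lit 234, nat_lit 156, nat_lit 234, nat_lit 78, nat_lit 234, nat_lit 78, nat_lit 234, nat_lit 78, nat_lit 234, nat_lit 78, nat_lit 195, nat_lit 78, nat_lit 234])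
(.leaf 21 22 [nat_lit 234, nat_lit 195, nat_lit 195, nat_lit 117, nat_lit 78, nat_lit 234, nat_lit 78, nat_lit 117, nat_lit 156, nat_lit 117, nat_lit 78, nat_lit 234, nat_lit 78, nat_lit 117, nat_lit 156, nat_lit 117, nat_lit 78, nat_lit 234, nat_lit 78, nat_lit 117, nat_lit 78, nat_lit 234])))
(.node (nat_lit 30) (.leaf 41 12 [nat_lit 234, nat_lit 78, nat_lit 234, nat_lit 78, nat_lit 234, nat_lit 78, nat_lit 117, nat_lit 78, nat_lit 234, nat_lit 78, nat_lit 234, nat_lit 78, nat_lit 234, nat_lit 78, nat_lit 234, nat_lit 117, nat_lit 234])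
(.node (nat_lit 31) (.leaf 35 16 [nat_lit 234, nat_lit 78, nat_lit 195, nat_lit 78, nat_lit 234, nat_lit 78, nat_lit 234, nat_lit 78, nat_lit 234, nat_lit 78, nat_lit 234, nat_lit 156, nat_lit 234, nat_lit 78, nat_lit 234, nat_lit 78, nat_lit 234])
(.node (nat_lit 32) (.leaf 41 8 [nat_lit 234, nat_lit 117, nat_lit 234, nat_lit 78, nat_lit 234, nat_lit 78, nat_lit 234, nat_lit 78, nat_lit 234, nat_lit 78, nat_lit 117, nat_lit 78, nat_lit 234, nat_lit 78, nat_lit 234, nat_lit 78, nat_lit 234])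
(.node (nat_lit 33) (.leaf 41 4 [nat_lit 234, nat_lit 78, nat_lit 234, nat_lit 78, nat_lit 234, nat_lit 117, nat_lit 234, nat_lit 78, nat_lit 234, nat_lit 78, nat_lit 234, nat_lit 78, nat_lit 234, nat_lit 78, nat_lit 117, nat_lit 78, nat_lit 234])
(.node (nat_lit 34) (.leaf 41 16 [nat_lit 234, nat_lit 78, nat_lit 117, nat_lit 78, nat_lit 234, nat_lit 78, nat_lit 234, nat_lit 78, nat_lit 234, nat_lit 78, nat_lit 234, nat_lit 117, nat_lit 234, nat_lit 78, nat_lit 234, nat_lit 78, nat_lit 234])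
(.leaf 41 14 [nat_lit 234, nat_lit 78, nat_lit 234, nat_lit 78, nat_lit 117, nat_lit 78, nat_lit 234, nat_lit 78, nat_lit 234, nat_lit 78, nat_lit 234, nat_lit 78, nat_lit 234, nat_lit 117, nat_lit 234, nat_lit 78, nat_lit 234])))))))))))))
(.leaf 0 0 [])))
noncomputable def wt3 : LT := (.node (nat_lit 3) (.node (nat_lit 0) (.leaf 17 3 [nat_lit 234, nat_lit 117, nat_lit 234])
(.node (nat_lit 1) (.leaf 25 5 [nat_lit 195, nat_lit 117, nat_lit 195, nat_lit 117, nat_lit 195])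
(.node (nat_lit 2) (.leaf 1 5 [nat_lit 78, nat_lit 117, nat_lit 78, nat_lit 117, nat_lit 78])
(.leaf 19 4 [nat_lit 0, nat_lit 195, nat_lit 117, nat_lit 156, nat_lit 39]))))
(.node (nat_lit 16) (.node (nat_lit 4) (.leaf 33 9 [nat_lit 156, nat_lit 117, nat_lit 195, nat_lit 234, nat_lit 117, nat_lit 156, nat_lit 117, nat_lit 195, nat_lit 234])
(.node (nat_lit 5) (.leaf 19 1 [nat_lit 156, nat_lit 39, nat_lit 117, nat_lit 0, nat_lit 195])
(.node (nat_lit 8) (.node (nat_lit 6) (.leaf 41 1 [nat_lit 78, nat_lit 234, nat_lit 78, nat_lit 234, nat_lit 78, nat_lit 234, nat_lit 78, nat_lit 234, nat_lit 117, nat_lit 234, nat_lit 78, nat_lit 234, nat_lit 78, nat_lit 234, nat_lit 78, nat_lit 234, nat_lit 78])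
(.node (nat_lit 7) (.leaf 33 6 [nat_lit 195, nat_lit 234, nat_lit 117, nat_lit 156, nat_lit 117, nat_lit 195, nat_lit 234, nat_lit 117, nat_lit 156])
(.leaf 29 14 [nat_lit 156, nat_lit 234, nat_lit 156, nat_lit 234, nat_lit 117, nat_lit 156, nat_lit 234, nat_lit 156, nat_lit 234, nat_lit 117, nat_lit 156, nat_lit 234, nat_lit 156, nat_lit 234])))
(.node (nat_lit 10) (.node (nat_lit 9) (.leaf 21 15 [nat_lit 78, nat_lit 234, nat_lit 78, nat_lit 117, nat_lit 78, nat_lit 234, nat_lit 78, nat_lit 234, nat_lit 195, nat_lit 195, nat_lit 117, nat_lit 78, nat_lit 234, nat_lit 78, nat_lit 117, nat_lit 156, nat_lit 117, nat_lit 78, nat_lit 234, nat_lit 78, nat_lit 117, nat_lit 156])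
(.leaf 21 19 [nat_lit 78, nat_lit 234, nat_lit 78, nat_lit 234, nat_lit 195, nat_lit 195, nat_lit 117, nat_lit 78, nat_lit 234, nat_lit 78, nat_lit 117, nat_lit 156, nat_lit 117, nat_lit 78, nat_lit 234, nat_lit 78, nat_lit 117, nat_lit 156, nat_lit 117, nat_lit 78, nat_lit 234, nat_lit 78]))
(.node (nat_lit 12) (.node (nat_lit 11) (.leaf 21 13 [nat_lit 156, nat_lit 117, nat_lit 78, nat_lit 234, nat_lit 78, nat_lit 117, nat_lit 78, nat_lit 234, nat_lit 78, nat_lit 234, nat_lit 195, nat_lit 195, nat_lit 117, nat_lit 78, nat_lit 234, nat_lit 78, nat_lit 117, nat_lit 156, nat_lit 117, nat_lit 78, nat_lit 234, nat_lit 78])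
(.leaf 37 0 [nat_lit 234, nat_lit 78, nat_lit 234, nat_lit 117, nat_lit 234, nat_lit 78, nat_lit 234, nat_lit 117, nat_lit 234, nat_lit 78, nat_lit 234]))
(.node (nat_lit 13) (.leaf 21 7 [nat_lit 156, nat_lit 117, nat_lit 78, nat_lit 234, nat_lit 78, nat_lit 117, nat_lit 156, nat_lit 117, nat_lit 78, nat_lit 234, nat_lit 78, nat_lit 117, nat_lit 78, nat_lit 234, nat_lit 78, nat_lit 234, nat_lit 195, nat_lit 195, nat_lit 117, nat_lit 78, nat_lit 234, nat_lit 78])
(.node (nat_lit 14) (.leaf 21 9 [nat_lit 78, nat_lit 234, nat_lit 78, nat_lit 117, nat_lit 156, nat_lit 117, nat_lit 78, nat_lit 234, nat_lit 78, nat_lit 117, nat_lit 78, nat_lit 234, nat_lit 78, nat_lit 234, nat_lit 195, nat_lit 195, nat_lit 117, nat_lit 78, nat_lit 234, nat_lit 78, nat_lit 117, nat_lit 156])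
(.node (nat_lit 15) (.leaf 21 3 [nat_lit 78, nat_lit 234, nat_lit 78, nat_lit 117, nat_lit 156, nat_lit 117, nat_lit 78, nat_lit 234, nat_lit 78, nat_lit 117, nat_lit 156, nat_lit 117, nat_lit 78, nat_lit 234, nat_lit 78, nat_lit 117, nat_lit 78, nat_lit 234, nat_lit 78, nat_lit 234, nat_lit 195, nat_lit 195])
(.leaf 41 10 [nat_lit 234, nat_lit 78, nat_lit 234, nat_lit 78, nat_lit 234, nat_lit 78, nat_lit 234, nat_lit 78, nat_lit 117, nat_lit 78, nat_lit 234, nat_lit 78, nat_lit 234, nat_lit 78, nat_lit 234, nat_lit 78, nat_lit 234])))))))))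
(.leaf 0 0 [])))
noncomputable def wt4 : LT := (.node (nat_lit 1) (.node (nat_lit 0) (.leaf 23 0 [nat_lit 195, nat_lit 195])
(.leaf 15 1 [nat_lit 234, nat_lit 156, nat_lit 234]))
(.node (nat_lit 3) (.node (nat_lit 2) (.leaf 39 0 [nat_lit 78, nat_lit 195, nat_lit 78])
(.leaf 25 0 [nat_lit 117, nat_lit 195, nat_lit 117, nat_lit 195, nat_lit 117]))
(.node (nat_lit 5) (.node (nat_lit 4) (.leaf 13 2 [nat_lit 0, nat_lit 156, nat_lit 39])
(.leaf 19 0 [nat_lit 117, nat_lit 156, nat_lit 39, nat_lit 117, nat_lit 0]))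
(.node (nat_lit 9) (.node (nat_lit 6) (.leaf 33 7 [nat_lit 234, nat_lit 117, nat_lit 156, nat_lit 117, nat_lit 195, nat_lit 234, nat_lit 117, nat_lit 156, nat_lit 117])
(.node (nat_lit 7) (.leaf 21 2 [nat_lit 117, nat_lit 78, nat_lit 234, nat_lit 78, nat_lit 117, nat_lit 156, nat_lit 117, nat_lit 78, nat_lit 234, nat_lit 78, nat_lit 117, nat_lit 156, nat_lit 117, nat_lit 78, nat_lit 234, nat_lit 78, nat_lit 117, nat_lit 78, nat_lit 234, nat_lit 78, nat_lit 234, nat_lit 195])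
(.node (nat_lit 8) (.leaf 35 1 [nat_lit 78, nat_lit 234, nat_lit 78, nat_lit 234, nat_lit 78, nat_lit 234, nat_lit 78, nat_lit 234, nat_lit 156, nat_lit 234, nat_lit 78, nat_lit 234, nat_lit 78, nat_lit 234, nat_lit 78, nat_lit 234, nat_lit 78])
(.leaf 21 1 [nat_lit 195, nat_lit 117, nat_lit 78, nat_lit 234, nat_lit 78, nat_lit 117, nat_lit 156, nat_lit 117, nat_lit 78, nat_lit 234, nat_lit 78, nat_lit 117, nat_lit 156, nat_lit 117, nat_lit 78, nat_lit 234, nat_lit 78, nat_lit 117, nat_lit 78, nat_lit 234, nat_lit 78, nat_lit 234]))))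
(.leaf 0 0 [])))))
noncomputable def wt5 : LT := (.node (nat_lit 9) (.node (nat_lit 0) (.leaf 15 3 [nat_lit 234, nat_lit 195, nat_lit 234])
(.node (nat_lit 1) (.leaf 13 0 [nat_lit 39, nat_lit 195, nat_lit 0])
(.node (nat_lit 2) (.leaf 33 0 [nat_lit 117, nat_lit 195, nat_lit 234, nat_lit 117, nat_lit 156, nat_lit 117, nat_lit 195, nat_lit 234, nat_lit 117])
(.node (nat_lit 3) (.leaf 21 14 [nat_lit 117, nat_lit 78, nat_lit 234, nat_lit 78, nat_lit 117, nat_lit 78, nat_lit 234, nat_lit 78, nat_lit 234, nat_lit 195, nat_lit 195, nat_lit 117, nat_lit 78, nat_lit 234, nat_lit 78, nat_lit 117, nat_lit 156, nat_lit 117, nat_lit 78, nat_lit 234, nat_lit 78, nat_lit 117])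
(.node (nat_lit 4) (.leaf 19 2 [nat_lit 39, nat_lit 117, nat_lit 0, nat_lit 195, nat_lit 117])
(.node (nat_lit 5) (.leaf 29 0 [nat_lit 234, nat_lit 156, nat_lit 234, nat_lit 117, nat_lit 156, nat_lit 234, nat_lit 156, nat_lit 234, nat_lit 117, nat_lit 156, nat_lit 234, nat_lit 156, nat_lit 234, nat_lit 117])
(.node (nat_lit 6) (.leaf 21 8 [nat_lit 117, nat_lit 78, nat_lit 234, nat_lit 78, nat_lit 117, nat_lit 156, nat_lit 117, nat_lit 78, nat_lit 234, nat_lit 78, nat_lit 117, nat_lit 78, nat_lit 234, nat_lit 78, nat_lit 234, nat_lit 195, nat_lit 195, nat_lit 117, nat_lit 78, nat_lit 234, nat_lit 78, nat_lit 117])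
(.node (nat_lit 7) (.leaf 27 0 [nat_lit 234, nat_lit 78, nat_lit 234, nat_lit 156, nat_lit 234, nat_lit 78, nat_lit 234])
(.node (nat_lit 8) (.leaf 35 10 [nat_lit 234, nat_lit 78, nat_lit 234, nat_lit 78, nat_lit 234, nat_lit 78, nat_lit 234, nat_lit 78, nat_lit 195, nat_lit 78, nat_lit 234, nat_lit 78, nat_lit 234, nat_lit 78, nat_lit 234, nat_lit 78, nat_lit 234])
(.leaf 29 12 [nat_lit 234, nat_lit 117, nat_lit 156, nat_lit 234, nat_lit 156, nat_lit 234, nat_lit 117, nat_lit 156, nat_lit 234, nat_lit 156, nat_lit 234, nat_lit 117, nat_lit 156, nat_lit 234]))))))))))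
(.leaf 0 0 []))
noncomputable def wt6 : LT := (.node (nat_lit 33) (.node (nat_lit 2) (.node (nat_lit 0) (.leaf 17 0 [nat_lit 117, nat_lit 234, nat_lit 117])
(.node (nat_lit 1) (.leaf 15 0 [nat_lit 195, nat_lit 234, nat_lit 156])
(.leaf 7 1 [nat_lit 39, nat_lit 78, nat_lit 234, nat_lit 78, nat_lit 234, nat_lit 78, nat_lit 234, nat_lit 78, nat_lit 234, nat_lit 0])))
(.node (nat_lit 4) (.node (nat_lit 3) (.leaf 15 2 [nat_lit 156, nat_lit 234, nat_lit 195])
(.leaf 5 6 [nat_lit 78, nat_lit 39, nat_lit 78, nat_lit 234, nat_lit 78, nat_lit 39, nat_lit 78]))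
(.node (nat_lit 7) (.node (nat_lit 5) (.leaf 7 10 [nat_lit 0, nat_lit 234, nat_lit 39, nat_lit 78, nat_lit 234, nat_lit 78, nat_lit 234, nat_lit 78, nat_lit 234, nat_lit 78])
(.node (nat_lit 6) (.leaf 33 8 [nat_lit 117, nat_lit 156, nat_lit 117, nat_lit 195, nat_lit 234, nat_lit 117, nat_lit 156, nat_lit 117, nat_lit 195])
(.leaf 29 11 [nat_lit 156, nat_lit 234, nat_lit 117, nat_lit 156, nat_lit 234, nat_lit 156, nat_lit 234, nat_lit 117, nat_lit 156, nat_lit 234, nat_lit 156, nat_lit 234, nat_lit 117, nat_lit 156])))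
(.node (nat_lit 9) (.node (nat_lit 8) (.leaf 7 8 [nat_lit 78, nat_lit 234, nat_lit 0, nat_lit 234, nat_lit 39, nat_lit 78, nat_lit 234, nat_lit 78, nat_lit 234, nat_lit 78])
(.leaf 29 13 [nat_lit 117, nat_lit 156, nat_lit 234, nat_lit 156, nat_lit 234, nat_lit 117, nat_lit 156, nat_lit 234, nat_lit 156, nat_lit 234, nat_lit 117, nat_lit 156, nat_lit 234, nat_lit 156]))
(.node (nat_lit 11) (.node (nat_lit 10) (.leaf 27 5 [nat_lit 78, nat_lit 234, nat_lit 156, nat_lit 234, nat_lit 78, nat_lit 234, nat_lit 156])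
(.leaf 37 9 [nat_lit 78, nat_lit 234, nat_lit 117, nat_lit 234, nat_lit 78, nat_lit 234, nat_lit 117, nat_lit 234, nat_lit 78, nat_lit 234, nat_lit 117]))
(.node (nat_lit 14) (.node (nat_lit 12) (.leaf 7 4 [nat_lit 78, nat_lit 234, nat_lit 78, nat_lit 234, nat_lit 78, nat_lit 234, nat_lit 0, nat_lit 234, nat_lit 39, nat_lit 78])
(.node (nat_lit 13) (.leaf 21 17 [nat_lit 78, nat_lit 117, nat_lit 78, nat_lit 234, nat_lit 78, nat_lit 234, nat_lit 195, nat_lit 195, nat_lit 117, nat_lit 78, nat_lit 234, nat_lit 78, nat_lit 117, nat_lit 156, nat_lit 117, nat_lit 78, nat_lit 234, nat_lit 78, nat_lit 117, nat_lit 156, nat_lit 117, nat_lit 78])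
(.leaf 7 6 [nat_lit 78, nat_lit 234, nat_lit 78, nat_lit 234, nat_lit 0, nat_lit 234, nat_lit 39, nat_lit 78, nat_lit 234, nat_lit 78])))
(.node (nat_lit 17) (.node (nat_lit 15) (.leaf 35 17 [nat_lit 78, nat_lit 195, nat_lit 78, nat_lit 234, nat_lit 78, nat_lit 234, nat_lit 78, nat_lit 234, nat_lit 78, nat_lit 234, nat_lit 156, nat_lit 234, nat_lit 78, nat_lit 234, nat_lit 78, nat_lit 234, nat_lit 78])
(.node (nat_lit 16) (.leaf 41 17 [nat_lit 78, nat_lit 117, nat_lit 78, nat_lit 234, nat_lit 78, nat_lit 234, nat_lit 78, nat_lit 234, nat_lit 78, nat_lit 234, nat_lit 117, nat_lit 234, nat_lit 78, nat_lit 234, nat_lit 78, nat_lit 234, nat_lit 78])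
(.leaf 21 5 [nat_lit 78, nat_lit 117, nat_lit 156, nat_lit 117, nat_lit 78, nat_lit 234, nat_lit 78, nat_lit 117, nat_lit 156, nat_lit 117, nat_lit 78, nat_lit 234, nat_lit 78, nat_lit 117, nat_lit 78, nat_lit 234, nat_lit 78, nat_lit 234, nat_lit 195, nat_lit 195, nat_lit 117, nat_lit 78])))
(.node (nat_lit 21) (.node (nat_lit 19) (.node (nat_lit 18) (.leaf 27 7 [nat_lit 156, nat_lit 234, nat_lit 78, nat_lit 234, nat_lit 156, nat_lit 234, nat_lit 78])
(.leaf 9 0 [nat_lit 78, nat_lit 234, nat_lit 78, nat_lit 234, nat_lit 78, nat_lit 234, nat_lit 78, nat_lit 234, nat_lit 78, nat_lit 234, nat_lit 78, nat_lit 234, nat_lit 78, nat_lit 234, nat_lit 78]))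
(.node (nat_lit 20) (.leaf 21 21 [nat_lit 78, nat_lit 234, nat_lit 195, nat_lit 195, nat_lit 117, nat_lit 78, nat_lit 234, nat_lit 78, nat_lit 117, nat_lit 156, nat_lit 117, nat_lit 78, nat_lit 234, nat_lit 78, nat_lit 117, nat_lit 156, nat_lit 117, nat_lit 78, nat_lit 234, nat_lit 78, nat_lit 117, nat_lit 78])
(.leaf 35 7 [nat_lit 78, nat_lit 234, nat_lit 156, nat_lit 234, nat_lit 78, nat_lit 234, nat_lit 78, nat_lit 234, nat_lit 78, nat_lit 234, nat_lit 78, nat_lit 195, nat_lit 78, nat_lit 234, nat_lit 78, nat_lit 234, nat_lit 78])))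
(.node (nat_lit 24) (.node (nat_lit 22) (.leaf 35 11 [nat_lit 78, nat_lit 234, nat_lit 78, nat_lit 234, nat_lit 78, nat_lit 234, nat_lit 78, nat_lit 195, nat_lit 78, nat_lit 234, nat_lit 78, nat_lit 234, nat_lit 78, nat_lit 234, nat_lit 78, nat_lit 234, nat_lit 156])
(.node (nat_lit 23) (.leaf 21 0 [nat_lit 195, nat_lit 195, nat_lit 117, nat_lit 78, nat_lit 234, nat_lit 78, nat_lit 117, nat_lit 156, nat_lit 117, nat_lit 78, nat_lit 234, nat_lit 78, nat_lit 117, nat_lit 156, nat_lit 117, nat_lit 78, nat_lit 234, nat_lit 78, nat_lit 117, nat_lit 78, nat_lit 234, nat_lit 78])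
(.leaf 21 11 [nat_lit 78, nat_lit 117, nat_lit 156, nat_lit 117, nat_lit 78, nat_lit 234, nat_lit 78, nat_lit 117, nat_lit 78, nat_lit 234, nat_lit 78, nat_lit 234, nat_lit 195, nat_lit 195, nat_lit 117, nat_lit 78, nat_lit 234, nat_lit 78, nat_lit 117, nat_lit 156, nat_lit 117, nat_lit 78])))
(.node (nat_lit 27) (.node (nat_lit 25) (.leaf 35 3 [nat_lit 78, nat_lit 234, nat_lit 78, nat_lit 234, nat_lit 78, nat_lit 234, nat_lit 156, nat_lit 234, nat_lit 78, nat_lit 234, nat_lit 78, nat_lit 234, nat_lit 78, nat_lit 234, nat_lit 78, nat_lit 195, nat_lit 78])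
(.node (nat_lit 26) (.leaf 35 9 [nat_lit 156, nat_lit 234, nat_lit 78, nat_lit 234, nat_lit 78, nat_lit 234, nat_lit 78, nat_lit 234, nat_lit 78, nat_lit 195, nat_lit 78, nat_lit 234, nat_lit 78, nat_lit 234, nat_lit 78, nat_lit 234, nat_lit 78])
(.leaf 41 9 [nat_lit 117, nat_lit 234, nat_lit 78, nat_lit 234, nat_lit 78, nat_lit 234, nat_lit 78, nat_lit 234, nat_lit 78, nat_lit 117, nat_lit 78, nat_lit 234, nat_lit 78, nat_lit 234, nat_lit 78, nat_lit 234, nat_lit 78])))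
(.node (nat_lit 29) (.node (nat_lit 28) (.leaf 41 11 [nat_lit 78, nat_lit 234, nat_lit 78, nat_lit 234, nat_lit 78, nat_lit 234, nat_lit 78, nat_lit 117, nat_lit 78, nat_lit 234, nat_lit 78, nat_lit 234, nat_lit 78, nat_lit 234, nat_lit 78, nat_lit 234, nat_lit 117])
(.leaf 37 11 [nat_lit 117, nat_lit 234, nat_lit 78, nat_lit 234, nat_lit 117, nat_lit 234, nat_lit 78, nat_lit 234, nat_lit 117, nat_lit 234, nat_lit 78]))
(.node (nat_lit 30) (.leaf 35 13 [nat_lit 78, nat_lit 234, nat_lit 78, nat_lit 234, nat_lit 78, nat_lit 195, nat_lit 78, nat_lit 234, nat_lit 78, nat_lit 234, nat_lit 78, nat_lit 234, nat_lit 78, nat_lit 234, nat_lit 156, nat_lit 234, nat_lit 78])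
(.node (nat_lit 31) (.leaf 35 5 [nat_lit 78, nat_lit 234, nat_lit 78, nat_lit 234, nat_lit 156, nat_lit 234, nat_lit 78, nat_lit 234, nat_lit 78, nat_lit 234, nat_lit 78, nat_lit 234, nat_lit 78, nat_lit 195, nat_lit 78, nat_lit 234, nat_lit 78])
(.node (nat_lit 32) (.leaf 41 15 [nat_lit 78, nat_lit 234, nat_lit 78, nat_lit 117, nat_lit 78, nat_lit 234, nat_lit 78, nat_lit 234, nat_lit 78, nat_lit 234, nat_lit 78, nat_lit 234, nat_lit 117, nat_lit 234, nat_lit 78, nat_lit 234, nat_lit 78])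
(.leaf 35 15 [nat_lit 78, nat_lit 234, nat_lit 78, nat_lit 195, nat_lit 78, nat_lit 234, nat_lit 78, nat_lit 234, nat_lit 78, nat_lit 234, nat_lit 78, nat_lit 234, nat_lit 156, nat_lit 234, nat_lit 78, nat_lit 234, nat_lit 78])))))))))))))))
(.leaf 0 0 []))
noncomputable def wt7 : LT := (.node (nat_lit 63) (.node (nat_lit 2) (.node (nat_lit 0) (.leaf 6 1 [nat_lit 234, nat_lit 78, nat_lit 234, nat_lit 78, nat_lit 234, nat_lit 78, nat_lit 234, nat_lit 78, nat_lit 0, nat_lit 234, nat_lit 39])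
(.node (nat_lit 1) (.leaf 5 7 [nat_lit 39, nat_lit 78, nat_lit 234, nat_lit 78, nat_lit 39, nat_lit 78, nat_lit 234, nat_lit 78])
(.leaf 7 10 [nat_lit 0, nat_lit 234, nat_lit 39, nat_lit 78, nat_lit 234, nat_lit 78, nat_lit 234, nat_lit 78, nat_lit 234, nat_lit 78, nat_lit 234])))
(.node (nat_lit 12) (.node (nat_lit 5) (.node (nat_lit 3) (.leaf 4 0 [nat_lit 0, nat_lit 78, nat_lit 234, nat_lit 78, nat_lit 0, nat_lit 78, nat_lit 234, nat_lit 78])
(.node (nat_lit 4) (.leaf 10 0 [nat_lit 0, nat_lit 78, nat_lit 39, nat_lit 78, nat_lit 0, nat_lit 78, nat_lit 39, nat_lit 78, nat_lit 0, nat_lit 78, nat_lit 39, nat_lit 78, nat_lit 0, nat_lit 78, nat_lit 39, nat_lit 78])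
(.leaf 5 0 [nat_lit 78, nat_lit 234, nat_lit 78, nat_lit 39, nat_lit 78, nat_lit 234, nat_lit 78, nat_lit 39])))
(.node (nat_lit 8) (.node (nat_lit 6) (.leaf 11 15 [nat_lit 39, nat_lit 78, nat_lit 0, nat_lit 78, nat_lit 39, nat_lit 78, nat_lit 0, nat_lit 78, nat_lit 39, nat_lit 78, nat_lit 0, nat_lit 78, nat_lit 39, nat_lit 78, nat_lit 0, nat_lit 78])
(.node (nat_lit 7) (.leaf 4 1 [nat_lit 78, nat_lit 234, nat_lit 78, nat_lit 0, nat_lit 78, nat_lit 234, nat_lit 78, nat_lit 0])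
(.leaf 1 0 [nat_lit 117, nat_lit 78, nat_lit 117, nat_lit 78, nat_lit 117, nat_lit 78])))
(.node (nat_lit 10) (.node (nat_lit 9) (.leaf 11 13 [nat_lit 0, nat_lit 78, nat_lit 39, nat_lit 78, nat_lit 0, nat_lit 78, nat_lit 39, nat_lit 78, nat_lit 0, nat_lit 78, nat_lit 39, nat_lit 78, nat_lit 0, nat_lit 78, nat_lit 39, nat_lit 78])
(.leaf 6 0 [nat_lit 39, nat_lit 234, nat_lit 78, nat_lit 234, nat_lit 78, nat_lit 234, nat_lit 78, nat_lit 234, nat_lit 78, nat_lit 0, nat_lit 234]))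
(.node (nat_lit 11) (.leaf 19 3 [nat_lit 117, nat_lit 0, nat_lit 195, nat_lit 117, nat_lit 156, nat_lit 39])
(.leaf 7 2 [nat_lit 78, nat_lit 234, nat_lit 78, nat_lit 234, nat_lit 78, nat_lit 234, nat_lit 78, nat_lit 234, nat_lit 0, nat_lit 234, nat_lit 39])))))
(.node (nat_lit 26) (.node (nat_lit 18) (.node (nat_lit 15) (.node (nat_lit 13) (.leaf 37 0 [nat_lit 234, nat_lit 78, nat_lit 234, nat_lit 117, nat_lit 234, nat_lit 78, nat_lit 234, nat_lit 117, nat_lit 234, nat_lit 78, nat_lit 234, nat_lit 117])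
(.node (nat_lit 14) (.leaf 11 14 [nat_lit 78, nat_lit 39, nat_lit 78, nat_lit 0, nat_lit 78, nat_lit 39, nat_lit 78, nat_lit 0, nat_lit 78, nat_lit 39, nat_lit 78, nat_lit 0, nat_lit 78, nat_lit 39, nat_lit 78, nat_lit 0])
(.leaf 40 17 [nat_lit 117, nat_lit 78, nat_lit 234, nat_lit 78, nat_lit 234, nat_lit 78, nat_lit 234, nat_lit 78, nat_lit 234, nat_lit 117, nat_lit 234, nat_lit 78, nat_lit 234, nat_lit 78, nat_lit 234, nat_lit 78, nat_lit 234, nat_lit 78])))
(.node (nat_lit 16) (.leaf 1 5 [nat_lit 78, nat_lit 117, nat_lit 78, nat_lit 117, nat_lit 78, nat_lit 117])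
(.node (nat_lit 17) (.leaf 11 0 [nat_lit 78, nat_lit 0, nat_lit 78, nat_lit 39, nat_lit 78, nat_lit 0, nat_lit 78, nat_lit 39, nat_lit 78, nat_lit 0, nat_lit 78, nat_lit 39, nat_lit 78, nat_lit 0, nat_lit 78, nat_lit 39])
(.leaf 6 9 [nat_lit 0, nat_lit 234, nat_lit 39, nat_lit 234, nat_lit 78, nat_lit 234, nat_lit 78, nat_lit 234, nat_lit 78, nat_lit 234, nat_lit 78]))))
(.node (nat_lit 22) (.node (nat_lit 20) (.node (nat_lit 19) (.leaf 0 1 [nat_lit 117, nat_lit 78, nat_lit 117, nat_lit 78, nat_lit 117, nat_lit 78])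
(.leaf 10 2 [nat_lit 39, nat_lit 78, nat_lit 0, nat_lit 78, nat_lit 39, nat_lit 78, nat_lit 0, nat_lit 78, nat_lit 39, nat_lit 78, nat_lit 0, nat_lit 78, nat_lit 39, nat_lit 78, nat_lit 0, nat_lit 78]))
(.node (nat_lit 21) (.leaf 7 0 [nat_lit 234, nat_lit 39, nat_lit 78, nat_lit 234, nat_lit 78, nat_lit 234, nat_lit 78, nat_lit 234, nat_lit 78, nat_lit 234, nat_lit 0])
(.leaf 19 1 [nat_lit 156, nat_lit 39, nat_lit 117, nat_lit 0, nat_lit 195, nat_lit 117])))
(.node (nat_lit 24) (.node (nat_lit 23) (.leaf 19 4 [nat_lit 0, nat_lit 195, nat_lit 117, nat_lit 156, nat_lit 39, nat_lit 117])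
(.leaf 21 12 [nat_lit 117, nat_lit 156, nat_lit 117, nat_lit 78, nat_lit 234, nat_lit 78, nat_lit 117, nat_lit 78, nat_lit 234, nat_lit 78, nat_lit 234, nat_lit 195, nat_lit 195, nat_lit 117, nat_lit 78, nat_lit 234, nat_lit 78, nat_lit 117, nat_lit 156, nat_lit 117, nat_lit 78, nat_lit 234, nat_lit 78]))
(.node (nat_lit 25) (.leaf 20 4 [nat_lit 117, nat_lit 78, nat_lit 234, nat_lit 78, nat_lit 117, nat_lit 195, nat_lit 117, nat_lit 78, nat_lit 234, nat_lit 78, nat_lit 117, nat_lit 195, nat_lit 117, nat_lit 78, nat_lit 234, nat_lit 78, nat_lit 117, nat_lit 156, nat_lit 156, nat_lit 234, nat_lit 78, nat_lit 234, nat_lit 78])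
(.leaf 7 9 [nat_lit 234, nat_lit 0, nat_lit 234, nat_lit 39, nat_lit 78, nat_lit 234, nat_lit 78, nat_lit 234, nat_lit 78, nat_lit 234, nat_lit 78])))))
(.node (nat_lit 38) (.node (nat_lit 31) (.node (nat_lit 28) (.node (nat_lit 27) (.leaf 20 9 [nat_lit 195, nat_lit 117, nat_lit 78, nat_lit 234, nat_lit 78, nat_lit 117, nat_lit 195, nat_lit 117, nat_lit 78, nat_lit 234, nat_lit 78, nat_lit 117, nat_lit 156, nat_lit 156, nat_lit 234, nat_lit 78, nat_lit 234, nat_lit 78, nat_lit 117, nat_lit 78, nat_lit 234, nat_lit 78, nat_lit 117])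
(.leaf 33 8 [nat_lit 117, nat_lit 156, nat_lit 117, nat_lit 195, nat_lit 234, nat_lit 117, nat_lit 156, nat_lit 117, nat_lit 195, nat_lit 234]))
(.node (nat_lit 29) (.leaf 35 0 [nat_lit 195, nat_lit 78, nat_lit 234, nat_lit 78, nat_lit 234, nat_lit 78, nat_lit 234, nat_lit 78, nat_lit 234, nat_lit 156, nat_lit 234, nat_lit 78, nat_lit 234, nat_lit 78, nat_lit 234, nat_lit 78, nat_lit 234, nat_lit 78])
(.node (nat_lit 30) (.leaf 36 0 [nat_lit 117, nat_lit 234, nat_lit 78, nat_lit 234, nat_lit 117, nat_lit 234, nat_lit 78, nat_lit 234, nat_lit 117, nat_lit 234, nat_lit 78, nat_lit 234])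
(.leaf 14 0 [nat_lit 234, nat_lit 195, nat_lit 234, nat_lit 156]))))
(.node (nat_lit 34) (.node (nat_lit 32) (.leaf 7 5 [nat_lit 234, nat_lit 78, nat_lit 234, nat_lit 78, nat_lit 234, nat_lit 0, nat_lit 234, nat_lit 39, nat_lit 78, nat_lit 234, nat_lit 78])
(.node (nat_lit 33) (.leaf 25 0 [nat_lit 117, nat_lit 195, nat_lit 117, nat_lit 195, nat_lit 117, nat_lit 195])
(.leaf 19 0 [nat_lit 117, nat_lit 156, nat_lit 39, nat_lit 117, nat_lit 0, nat_lit 195])))
(.node (nat_lit 36) (.node (nat_lit 35) (.leaf 10 1 [nat_lit 78, nat_lit 39, nat_lit 78, nat_lit 0, nat_lit 78, nat_lit 39, nat_lit 78, nat_lit 0, nat_lit 78, nat_lit 39, nat_lit 78, nat_lit 0, nat_lit 78, nat_lit 39, nat_lit 78, nat_lit 0])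
(.leaf 21 6 [nat_lit 117, nat_lit 156, nat_lit 117, nat_lit 78, nat_lit 234, nat_lit 78, nat_lit 117, nat_lit 156, nat_lit 117, nat_lit 78, nat_lit 234, nat_lit 78, nat_lit 117, nat_lit 78, nat_lit 234, nat_lit 78, nat_lit 234, nat_lit 195, nat_lit 195, nat_lit 117, nat_lit 78, nat_lit 234, nat_lit 78]))
(.node (nat_lit 37) (.leaf 4 3 [nat_lit 78, nat_lit 0, nat_lit 78, nat_lit 234, nat_lit 78, nat_lit 0, nat_lit 78, nat_lit 234])
(.leaf 17 0 [nat_lit 117, nat_lit 234, nat_lit 117, nat_lit 234])))))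
(.node (nat_lit 49) (.node (nat_lit 42) (.node (nat_lit 40) (.node (nat_lit 39) (.leaf 41 0 [nat_lit 117, nat_lit 78, nat_lit 234, nat_lit 78, nat_lit 234, nat_lit 78, nat_lit 234, nat_lit 78, nat_lit 234, nat_lit 117, nat_lit 234, nat_lit 78, nat_lit 234, nat_lit 78, nat_lit 234, nat_lit 78, nat_lit 234, nat_lit 78])
(.leaf 20 8 [nat_lit 117, nat_lit 195, nat_lit 117, nat_lit 78, nat_lit 234, nat_lit 78, nat_lit 117, nat_lit 195, nat_lit 117, nat_lit 78, nat_lit 234, nat_lit 78, nat_lit 117, nat_lit 156, nat_lit 156, nat_lit 234, nat_lit 78, nat_lit 234, nat_lit 78, nat_lit 117, nat_lit 78, nat_lit 234, nat_lit 78]))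
(.node (nat_lit 41) (.leaf 7 1 [nat_lit 39, nat_lit 78, nat_lit 234, nat_lit 78, nat_lit 234, nat_lit 78, nat_lit 234, nat_lit 78, nat_lit 234, nat_lit 0, nat_lit 234])
(.leaf 14 2 [nat_lit 234, nat_lit 156, nat_lit 234, nat_lit 195])))
(.node (nat_lit 45) (.node (nat_lit 43) (.leaf 36 2 [nat_lit 78, nat_lit 234, nat_lit 117, nat_lit 234, nat_lit 78, nat_lit 234, nat_lit 117, nat_lit 234, nat_lit 78, nat_lit 234, nat_lit 117, nat_lit 234])
(.node (nat_lit 44) (.leaf 27 7 [nat_lit 156, nat_lit 234, nat_lit 78, nat_lit 234, nat_lit 156, nat_lit 234, nat_lit 78, nat_lit 234])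
(.leaf 0 0 [nat_lit 78, nat_lit 117, nat_lit 78, nat_lit 117, nat_lit 78, nat_lit 117])))
(.node (nat_lit 47) (.node (nat_lit 46) (.leaf 6 3 [nat_lit 234, nat_lit 78, nat_lit 234, nat_lit 78, nat_lit 234, nat_lit 78, nat_lit 0, nat_lit 234, nat_lit 39, nat_lit 234, nat_lit 78])
(.leaf 38 0 [nat_lit 156, nat_lit 78, nat_lit 156, nat_lit 78]))
(.node (nat_lit 48) (.leaf 18 2 [nat_lit 117, nat_lit 0, nat_lit 195, nat_lit 117, nat_lit 156, nat_lit 39])
(.leaf 20 15 [nat_lit 195, nat_lit 117, nat_lit 78, nat_lit 234, nat_lit 78, nat_lit 117, nat_lit 156, nat_lit 156, nat_lit 234, nat_lit 78, nat_lit 234, nat_lit 78, nat_lit 117, nat_lit 78, nat_lit 234, nat_lit 78, nat_lit 117, nat_lit 195, nat_lit 117, nat_lit 78, nat_lit 234, nat_lit 78, nat_lit 117])))))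
(.node (nat_lit 56) (.node (nat_lit 52) (.node (nat_lit 50) (.leaf 21 18 [nat_lit 117, nat_lit 78, nat_lit 234, nat_lit 78, nat_lit 234, nat_lit 195, nat_lit 195, nat_lit 117, nat_lit 78, nat_lit 234, nat_lit 78, nat_lit 117, nat_lit 156, nat_lit 117, nat_lit 78, nat_lit 234, nat_lit 78, nat_lit 117, nat_lit 156, nat_lit 117, nat_lit 78, nat_lit 234, nat_lit 78])
(.node (nat_lit 51) (.leaf 41 9 [nat_lit 117, nat_lit 234, nat_lit 78, nat_lit 234, nat_lit 78, nat_lit 234, nat_lit 78, nat_lit 234, nat_lit 78, nat_lit 117, nat_lit 78, nat_lit 234, nat_lit 78, nat_lit 234, nat_lit 78, nat_lit 234, nat_lit 78, nat_lit 234])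
(.leaf 16 1 [nat_lit 117, nat_lit 234, nat_lit 117, nat_lit 234])))
(.node (nat_lit 54) (.node (nat_lit 53) (.leaf 21 14 [nat_lit 117, nat_lit 78, nat_lit 234, nat_lit 78, nat_lit 117, nat_lit 78, nat_lit 234, nat_lit 78, nat_lit 234, nat_lit 195, nat_lit 195, nat_lit 117, nat_lit 78, nat_lit 234, nat_lit 78, nat_lit 117, nat_lit 156, nat_lit 117, nat_lit 78, nat_lit 234, nat_lit 78, nat_lit 117, nat_lit 156])
(.leaf 33 0 [nat_lit 117, nat_lit 195, nat_lit 234, nat_lit 117, nat_lit 156, nat_lit 117, nat_lit 195, nat_lit 234, nat_lit 117, nat_lit 156]))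
(.node (nat_lit 55) (.leaf 20 20 [nat_lit 117, nat_lit 156, nat_lit 156, nat_lit 234, nat_lit 78, nat_lit 234, nat_lit 78, nat_lit 117, nat_lit 78, nat_lit 234, nat_lit 78, nat_lit 117, nat_lit 195, nat_lit 117, nat_lit 78, nat_lit 234, nat_lit 78, nat_lit 117, nat_lit 195, nat_lit 117, nat_lit 78, nat_lit 234, nat_lit 78])
(.leaf 21 9 [nat_lit 78, nat_lit 234, nat_lit 78, nat_lit 117, nat_lit 156, nat_lit 117, nat_lit 78, nat_lit 234, nat_lit 78, nat_lit 117, nat_lit 78, nat_lit 234, nat_lit 78, nat_lit 234, nat_lit 195, nat_lit 195, nat_lit 117, nat_lit 78, nat_lit 234, nat_lit 78, nat_lit 117, nat_lit 156, nat_lit 117]))))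
(.node (nat_lit 59) (.node (nat_lit 57) (.leaf 17 3 [nat_lit 234, nat_lit 117, nat_lit 234, nat_lit 117])
(.node (nat_lit 58) (.leaf 34 8 [nat_lit 195, nat_lit 234, nat_lit 78, nat_lit 234, nat_lit 78, nat_lit 234, nat_lit 78, nat_lit 234, nat_lit 78, nat_lit 156, nat_lit 78, nat_lit 234, nat_lit 78, nat_lit 234, nat_lit 78, nat_lit 234, nat_lit 78, nat_lit 234])
(.leaf 32 4 [nat_lit 117, nat_lit 195, nat_lit 117, nat_lit 234, nat_lit 156, nat_lit 117, nat_lit 195, nat_lit 117, nat_lit 234, nat_lit 156])))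
(.node (nat_lit 61) (.node (nat_lit 60) (.leaf 10 3 [nat_lit 78, nat_lit 0, nat_lit 78, nat_lit 39, nat_lit 78, nat_lit 0, nat_lit 78, nat_lit 39, nat_lit 78, nat_lit 0, nat_lit 78, nat_lit 39, nat_lit 78, nat_lit 0, nat_lit 78, nat_lit 39])
(.leaf 39 3 [nat_lit 195, nat_lit 78, nat_lit 195, nat_lit 78]))
(.node (nat_lit 62) (.leaf 41 8 [nat_lit 234, nat_lit 117, nat_lit 234, nat_lit 78, nat_lit 234, nat_lit 78, nat_lit 234, nat_lit 78, nat_lit 234, nat_lit 78, nat_lit 117, nat_lit 78, nat_lit 234, nat_lit 78, nat_lit 234, nat_lit 78, nat_lit 234, nat_lit 78])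
(.leaf 20 14 [nat_lit 117, nat_lit 195, nat_lit 117, nat_lit 78, nat_lit 234, nat_lit 78, nat_lit 117, nat_lit 156, nat_lit 156, nat_lit 234, nat_lit 78, nat_lit 234, nat_lit 78, nat_lit 117, nat_lit 78, nat_lit 234, nat_lit 78, nat_lit 117, nat_lit 195, nat_lit 117, nat_lit 78, nat_lit 234, nat_lit 78]))))))))))
(.leaf 0 0 []))
noncomputable def sl : List (ℕ × ℕ × List ℕ × List ℕ) := [(6, nat_lit 78, [], []),
(4, nat_lit 117, [], []),
(2, nat_lit 156, [], []),
(0, nat_lit 234, [], [])]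
/-- the inverse column -/
noncomputable def icol (x : ℕ) : ℕ := List.getD [nat_lit 1, nat_lit 0, nat_lit 2, nat_lit 3, nat_lit 5, nat_lit 4, nat_lit 6] x x
noncomputable def inv (x : ℕ) : ℕ := Nat.mul (icol (Nat.div x (nat_lit 39))) (nat_lit 39)
def cols : List ℕ := [nat_lit 273, nat_lit 0, nat_lit 39, nat_lit 78, nat_lit 117, nat_lit 156, nat_lit 195, nat_lit 234]
noncomputable def cl : CL := (.cons (nat_lit 0) (nat_lit 39) (nat_lit 0) (nat_lit 0) wt0
(.cons (nat_lit 39) (nat_lit 0) (nat_lit 33) (nat_lit 1227) wt1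
(.cons (nat_lit 78) (nat_lit 78) (nat_lit 66) (nat_lit 2454) wt2
(.cons (nat_lit 117) (nat_lit 117) (nat_lit 99) (nat_lit 3681) wt3
(.cons (nat_lit 156) (nat_lit 195) (nat_lit 132) (nat_lit 4908) wt4
(.cons (nat_lit 195) (nat_lit 156) (nat_lit 165) (nat_lit 6135) wt5
(.cons (nat_lit 234) (nat_lit 234) (nat_lit 198) (nat_lit 7362) wt6
.nil)))))))
def rels : List (List ℕ) := [[2, 3, 2, 3, 2, 3],
[6, 6],
[0, 2, 6, 2, 0, 2, 6, 2],
[1, 6, 2, 6, 2, 6, 2, 6, 2, 0, 6],
[6, 2, 6, 2, 6, 2, 6, 2, 6, 2, 6, 2, 6, 2, 6, 2],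
[0, 2, 1, 2, 0, 2, 1, 2, 0, 2, 1, 2, 0, 2, 1, 2],
[5, 1, 4, 0],
[6, 5, 6, 4],
[6, 3, 6, 3],
[4, 1, 3, 0, 5, 3],
[6, 2, 6, 2, 3, 2, 6, 2, 3, 5, 3, 2, 6, 2, 3, 5, 3, 2, 6, 2, 3, 4, 4],
[4, 4, 4],
[4, 3, 4, 3, 4, 3],
[5, 6, 2, 6, 5, 6, 2, 6],
[5, 3, 6, 5, 6, 5, 3, 6, 5, 6, 5, 3, 6, 5, 6],
[3, 3],
[5, 3, 6, 4, 3, 5, 3, 6, 4, 3],
[2, 6, 2, 6, 2, 6, 2, 6, 5, 6, 2, 6, 2, 6, 2, 6, 2, 4],
[3, 6, 2, 6, 3, 6, 2, 6, 3, 6, 2, 6],
[4, 2, 4, 2],
[2, 6, 2, 6, 2, 6, 2, 6, 3, 6, 2, 6, 2, 6, 2, 6, 2, 3],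
[2, 2],
[0, 0, 0]]
def subs : List (List ℕ) := [[6],
[4],
[3],
[2]]
noncomputable def chk : ℕ → Bool := rowChk row jrow fget sl cols (nat_lit 78489) (nat_lit 183824) (nat_lit 549755813887) (nat_lit 262143) (nat_lit 549755813888) (nat_lit 273) (nat_lit 312) (nat_lit 8589934591) (nat_lit 6) (nat_lit 63) (nat_lit 17) (nat_lit 131071) cl (nat_lit 231) wt7
end H74.JJ.EU0
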